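import Cfsg.Agent.Lib.UFourType.Model.Perms

/-!
The checks of the codes on 126 points.
-/

set_option autoImplicit false
set_option maxRecDepth 100000
set_option Elab.async false

namespace CfsgLib.UFourType.Model

/-- Products in the normal subgroup. -/
noncomputable def qqB (v : ℕ) : Bool :=
  (List.range 32).all fun w => Nat.blt (uQ v w) 32 && sameB [v, w] [uQ v w]

/-- The representatives act on the normal subgroup. -/
noncomputable def rqB (l : ℕ) : Bool :=
  (List.range 32).all fun w => Nat.blt (uGet aTab 5 l w) 32 && sameB [32 * l, w] [uGet aTab 5 l w, 32 * l]

/-- Products of representatives. -/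
noncomputable def rrB (l : ℕ) : Bool :=
  (List.range 36).all fun m => Nat.blt (uGet mTab 11 l m) 1152 && sameB [32 * l, 32 * m] [uGet mTab 11 l m]

theorem qq_ok : (List.range 32).all qqB = true := by decide +kernel

theorem rq_ok : (List.range 36).all rqB = true := by decide +kernel

theorem rr_ok : (List.range 36).all rrB = true := by decide +kernel

theorem zero_ok : (sameB [0] [] && (List.range 1152).all fun c =>
    Nat.beq (qN (c % 32)) (qN ((c % 32) % 32)) && Nat.beq (c % 32 + 32 * (c / 32)) c) = true := by decide +kernel

end CfsgLib.UFourType.Model
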