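import Cfsg.Agent.Lib.UFourType.Model.Checks
import Cfsg.Agent.Lib.LargeFischer.U43Norm

/-!
The model: the coded centraliser and the element of order three in the unitary group of dimension four over nine
elements.
-/

set_option autoImplicit false
set_option maxRecDepth 100000

namespace CfsgLib.UFourType.Model

open CfsgLib.LeechPSU CfsgLib.Schur.Tails.UFour CfsgLib.TailsData CfsgLib.LargeFischer
open scoped Pointwise

/-- An entry of a list in blocks of 64. -/
def g64 (L : List (List ℕ)) (i : ℕ) : ℕ := (L.getD (i / 64) []).getD (i % 64) 0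

/-- The key of a code: the images of two points. -/
noncomputable def keyOf (c : ℕ) : ℕ := ptL c (base.getD 0 0) + 128 * ptL c (base.getD 1 0)

theorem key_ok : ((List.range 1152).all fun c => Nat.beq (g64 byKey (g64 ordT c)) c && Nat.blt (g64 ordT c) 1152 &&
    Nat.beq (g64 keyT (g64 ordT c)) (keyOf c) && (Nat.ble 1151 c || Nat.blt (g64 keyT c) (g64 keyT (c + 1)))) = true := by
  decide +kernel

theorem z_ok : ((List.range 126).all fun x => Nat.beq (ptL 1 x) (fieldAt (U43.el (U43.iI U43.central)) x)) = true := by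
  decide +kernel

theorem tab_ok : (psiT.all fun p => Nat.blt p.1 1152 && Nat.blt p.2 1152 && sameB [p.1, 1153] [1153, p.2]) = true := by
  decide +kernel

theorem rels_ok : (sameB [1153, 1153, 1153] [] && sameB relOne [] && sameB relTwo [] && sameB relCom [] &&
    mwOk relOne && mwOk relTwo && mwOk relCom) = true := by decide +kernel

theorem gen_ok : (mwOk genW0 && mwOk genW1 &&
    ((List.range 126).all fun x => Nat.beq (ptW genW0 x) (fieldAt (uFourCodes.getD 0 0) x)) &&
    ((List.range 126).all fun x => Nat.beq (ptW genW1 x) (fieldAt (uFourCodes.getD 1 0) x))) = true := by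
  decide +kernel

theorem one_el : mElC 0 = 1 := by
  have h := zero_ok
  rw [Bool.and_eq_true] at h
  have := evW_eq (u := [0]) (v := []) (by decide +kernel) (by decide +kernel) h.1
  simpa [evW, evL] using this

theorem q_el {v : ℕ} (hv : v < 32) : mElC v = mP (qN v) * mP (rN 0) := by
  rw [mElC, Nat.mod_eq_of_lt hv, Nat.div_eq_of_lt hv]

theorem r_el (l : ℕ) : mElC (32 * l) = mP (qN 0) * mP (rN l) := by
  rw [mElC, Nat.mul_mod_right, Nat.mul_div_cancel_left _ (by norm_num)]

theorem ones_ok : (((List.range 126).all fun x => Nat.beq (fieldAt (mel (qN 0)) x) x) &&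
    (List.range 126).all fun x => Nat.beq (fieldAt (mel (rN 0)) x) x) = true := by decide +kernel

theorem ones : mP (qN 0) = 1 ∧ mP (rN 0) = 1 := by
  obtain ⟨hq, hr, -⟩ := idx_spec
  have h := ones_ok
  simp only [Bool.and_eq_true, List.all_eq_true, List.mem_range, Nat.beq_eq] at h
  exact ⟨Subtype.ext (Equiv.ext fun x => Fin.ext (by rw [code_mP (hq 0 (by norm_num)) x, h.1 x.val x.isLt]; rfl)),
    Subtype.ext (Equiv.ext fun x => Fin.ext (by rw [code_mP (hr 0 (by norm_num)) x, h.2 x.val x.isLt]; rfl))⟩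

theorem split_el {c : ℕ} : mElC c = mP (qN (c % 32)) * mP (rN (c / 32)) := rfl

theorem small {a b : ℕ} {u v : List ℕ} (h : sameB u v = true) (hu : u = [a, b]) (ha : a < 1152) (hb : b < 1152)
    (hv : mwOk v = true) : mElC a * mElC b = evW mElC mS v := by
  subst hu
  have := evW_eq (u := [a, b]) (v := v) (by simp [mwOk]; omega) hv h
  rw [← this]
  simp [evW, evL, ha, hb]

theorem mul_el {c d : ℕ} (hc : c < 1152) (hd : d < 1152) :
    uMul c d < 1152 ∧ mElC c * mElC d = mElC (uMul c d) := by
  obtain ⟨hQ, hR⟩ := ones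
  have qe : ∀ v, v < 32 → mElC v = mP (qN v) := fun v hv => by rw [q_el hv, hR, mul_one]
  have re : ∀ l, mElC (32 * l) = mP (rN l) := fun l => by rw [r_el, hQ, one_mul]
  have spl : ∀ e, e < 1152 → mElC e = mElC (e % 32) * mElC (32 * (e / 32)) := fun e _ => by
    rw [qe _ (Nat.mod_lt _ (by norm_num)), re, split_el]
  have hqq : ∀ v < 32, ∀ w < 32, uQ v w < 32 ∧ mElC v * mElC w = mElC (uQ v w) := by
    intro v hv w hw
    have h := List.all_eq_true.1 (List.all_eq_true.1 qq_ok v (List.mem_range.2 hv)) w (List.mem_range.2 hw)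
    simp only [Bool.and_eq_true, Nat.blt_eq] at h
    refine ⟨h.1, ?_⟩
    rw [small h.2 rfl (by omega) (by omega) (by simp [mwOk]; omega)]
    simp [evW, evL, show uQ v w < 1152 by omega]
  have hrq : ∀ l < 36, ∀ w < 32, uGet aTab 5 l w < 32 ∧
      mElC (32 * l) * mElC w = mElC (uGet aTab 5 l w) * mElC (32 * l) := by
    intro l hl w hw
    have h := List.all_eq_true.1 (List.all_eq_true.1 rq_ok l (List.mem_range.2 hl)) w (List.mem_range.2 hw)
    simp only [Bool.and_eq_true, Nat.blt_eq] at h
    refine ⟨h.1, ?_⟩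
    rw [small h.2 rfl (by omega) (by omega) (by simp [mwOk]; omega)]
    simp [evW, evL, show uGet aTab 5 l w < 1152 by omega, show 32 * l < 1152 by omega]
  have hrr : ∀ l < 36, ∀ m < 36, uGet mTab 11 l m < 1152 ∧
      mElC (32 * l) * mElC (32 * m) = mElC (uGet mTab 11 l m) := by
    intro l hl m hm
    have h := List.all_eq_true.1 (List.all_eq_true.1 rr_ok l (List.mem_range.2 hl)) m (List.mem_range.2 hm)
    simp only [Bool.and_eq_true, Nat.blt_eq] at h
    refine ⟨h.1, ?_⟩
    rw [small h.2 rfl (by omega) (by omega) (by simp [mwOk]; omega)]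
    simp [evW, evL, h.1]
  set v := c % 32 with hv'
  set l := c / 32 with hl'
  set w := d % 32 with hw'
  set m := d / 32 with hm'
  obtain ⟨ha, ea⟩ := hrq l (by omega) w (by omega)
  obtain ⟨hM, eM⟩ := hrr l (by omega) m (by omega)
  set A := uGet aTab 5 l w
  set M := uGet mTab 11 l m with hMdef
  obtain ⟨h1, e1⟩ := hqq v (by omega) A ha
  obtain ⟨h2, e2⟩ := hqq (uQ v A) h1 (M % 32) (by omega)
  have hu : uMul c d = uQ (uQ v A) (M % 32) + 32 * (M / 32) := rfl
  have hlt : uMul c d < 1152 := by omega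
  refine ⟨hlt, ?_⟩
  rw [spl c hc, spl d hd, spl _ hlt, show uMul c d % 32 = uQ (uQ v A) (M % 32) by omega,
    show uMul c d / 32 = M / 32 by omega, ← hv', ← hl', ← hw', ← hm']
  calc mElC v * mElC (32 * l) * (mElC w * mElC (32 * m))
      = mElC v * (mElC (32 * l) * mElC w) * mElC (32 * m) := by group
    _ = mElC v * mElC A * (mElC (32 * l) * mElC (32 * m)) := by rw [ea]; group
    _ = mElC (uQ v A) * (mElC (M % 32) * mElC (32 * (M / 32))) := by rw [e1, eM, spl M hM]
    _ = _ := by rw [← e2]; group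

theorem key_inj {c d : ℕ} (hc : c < 1152) (hd : d < 1152) (h : mElC c = mElC d) : c = d := by
  have hk := key_ok
  simp only [List.all_eq_true, List.mem_range, Bool.and_eq_true, Bool.or_eq_true, Nat.blt_eq, Nat.ble_eq,
    Nat.beq_eq] at hk
  obtain ⟨⟨⟨c1, c2⟩, c3⟩, -⟩ := hk c hc
  obtain ⟨⟨⟨d1, d2⟩, d3⟩, -⟩ := hk d hd
  have eq' : ∀ x : Fin 126, ptL c x.val = ptL d x.val := fun x => by
    rw [← ptL_spec (by omega) (by omega) x, ← ptL_spec (by omega) (by omega) x]
    simp only [evL, hc, hd, if_true, h]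
  have hb : base.getD 0 0 < 126 ∧ base.getD 1 0 < 126 := by decide +kernel
  have ek : keyOf c = keyOf d := by
    simp only [keyOf]; rw [eq' ⟨_, hb.1⟩, eq' ⟨_, hb.2⟩]
  have mono : ∀ i j, i < j → j < 1152 → g64 keyT i < g64 keyT j := by
    intro i j hij hj
    induction j with
    | zero => omega
    | succ j ih =>
      have hs := (hk j (by omega)).2.resolve_left (by omega)
      rcases Nat.lt_succ_iff_lt_or_eq.1 hij with hl | rfl
      · exact (ih hl (by omega)).trans hs
      · exact hs
  have er : g64 ordT c = g64 ordT d := by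
    rcases lt_trichotomy (g64 ordT c) (g64 ordT d) with hl | hl | hl
    · exact absurd (c3.trans (ek.trans d3.symm)) (Nat.ne_of_lt (mono _ _ hl d2))
    · exact hl
    · exact absurd (c3.trans (ek.trans d3.symm)).symm (Nat.ne_of_lt (mono _ _ hl c2))
  rw [← c1, ← d1, er]

theorem z_eq : mElC 1 = U43.iP U43.central := by
  obtain ⟨-, -, -, hIe, -, -, -, hcen, -⟩ := U43.ranges
  refine Subtype.ext (Equiv.ext fun x => Fin.ext ?_)
  have h := ptL_spec (a := 1) (by norm_num) (by norm_num) x
  simp only [evL, show (1 : ℕ) < 1152 by norm_num, if_true] at h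
  rw [h, Nat.eq_of_beq_eq_true (List.all_eq_true.1 z_ok x.val (List.mem_range.2 x.isLt))]
  exact (U43.code_E (hIe U43.central hcen) x).symm

theorem centralizer_card : Nat.card ↥(Subgroup.centralizer ({mElC 1} : Set ↥H4)) ≤ 1152 := by
  obtain ⟨-, -, -, hIe, -, -, -, hcen, -⟩ := U43.ranges
  have hce := U43.cent_ok
  simp only [U43.centB, U43.rng, Bool.and_eq_true, List.all_eq_true, List.mem_range, beq_iff_eq] at hce
  have hroot := hce.1.1.1.1.1.1
  rw [z_eq]
  set z := U43.iP U43.central with hz
  set U := U43.setP (U43.get2 U43.tOrbSets 0 0) with hU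
  have hUz : ∀ a : Fin 126, a ∈ U ↔ (z : Equiv.Perm (Fin 126)) a = a := fun a => by
    show (U43.get2 U43.tOrbSets 0 0).testBit a.val = true ↔ _
    rw [hroot a.val a.isLt, Nat.beq_eq, ← U43.code_E (hIe U43.central hcen), ← Fin.ext_iff]
    rfl
  have hCle : Subgroup.centralizer ({z} : Set ↥H4) ≤ MulAction.stabilizer ↥H4 U := by
    intro g hg
    rw [Subgroup.mem_centralizer_singleton_iff] at hg
    rw [MulAction.mem_stabilizer_iff, U43.smul_set]
    ext a
    obtain ⟨b, rfl⟩ := (g : Equiv.Perm (Fin 126)).surjective a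
    rw [(g : Equiv.Perm (Fin 126)).injective.mem_set_image, hUz, hUz, ← Equiv.Perm.mul_apply,
      ← Subgroup.coe_mul, ← hg, Subgroup.coe_mul, Equiv.Perm.mul_apply,
      (g : Equiv.Perm (Fin 126)).injective.eq_iff]
  have h1 := Subgroup.card_le_of_le hCle
  have h2 : Nat.card (MulAction.stabilizer ↥H4 U) * 2835 ≤ 3265920 := U43.stab_le U43.tOrb_ok
  omega

theorem z_central : ((List.range 1152).all fun c => Nat.beq (uMul c 1) (uMul 1 c)) = true := by decide +kernel

/-- The codes in the model. -/
theorem code : Code (mElC 1) mElC := by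
  have hmem : ∀ c, c < 1152 → mElC c ∈ Subgroup.centralizer ({mElC 1} : Set ↥H4) := fun c hc => by
    rw [Subgroup.mem_centralizer_singleton_iff, (mul_el hc (by norm_num)).2, (mul_el (by norm_num) hc).2,
      Nat.eq_of_beq_eq_true (List.all_eq_true.1 z_central c (List.mem_range.2 hc))]
  refine { one := one_el, mul := fun c d hc hd => mul_el hc hd, mem := hmem,
           inj := fun c d hc hd h => key_inj hc hd h, surj := fun g hg => ?_, z_eq := rfl }
  let f : Fin 1152 → ↥(Subgroup.centralizer ({mElC 1} : Set ↥H4)) := fun c => ⟨mElC c.val, hmem c.val c.isLt⟩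
  have hf : Function.Injective f := fun c d e => Fin.ext (key_inj c.isLt d.isLt (congrArg Subtype.val e))
  have hcard : Nat.card (Fin 1152) = Nat.card ↥(Subgroup.centralizer ({mElC 1} : Set ↥H4)) :=
    le_antisymm (Nat.card_le_card_of_injective f hf) (by rw [Nat.card_fin]; exact centralizer_card)
  obtain ⟨c, hc⟩ := ((Nat.bijective_iff_injective_and_card f).2 ⟨hf, hcard⟩).2 ⟨g, hg⟩
  exact ⟨c.val, c.isLt, congrArg Subtype.val hc⟩

/-- The element of order three in the model. -/
theorem cyc : Cyc mElC mS ∧ evW mElC mS relCom = 1 := by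
  have h := rels_ok
  simp only [Bool.and_eq_true] at h
  obtain ⟨⟨⟨⟨⟨⟨h3, h1⟩, h2⟩, hc⟩, o1⟩, o2⟩, oc⟩ := h
  refine ⟨⟨?_, fun p hp => ?_, evW_eq (v := []) o1 (by decide +kernel) h1,
    evW_eq (v := []) o2 (by decide +kernel) h2⟩, evW_eq (v := []) oc (by decide +kernel) hc⟩
  · have := evW_eq (u := [1153, 1153, 1153]) (v := []) (by decide +kernel) (by decide +kernel) h3
    simpa [evW, evL, pow_succ, mul_assoc] using this
  · have h := List.all_eq_true.1 tab_ok p hp
    simp only [Bool.and_eq_true, Nat.blt_eq] at h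
    have := evW_eq (u := [p.1, 1153]) (v := [1153, p.2]) (by simp [mwOk]; omega) (by simp [mwOk]; omega) h.2
    simpa [evW, evL, h.1.1, h.1.2] using this

/-- The model is generated by the codes and the element of order three. -/
theorem generated : Subgroup.closure (mElC '' Set.Iio 1152 ∪ {mS}) = ⊤ := by
  set T := Subgroup.closure (mElC '' Set.Iio 1152 ∪ {mS}) with hT
  have hev : ∀ w, mwOk w = true → evW mElC mS w ∈ T := by
    intro w hw
    refine Subgroup.list_prod_mem T fun g hg => ?_
    obtain ⟨a, ha, rfl⟩ := List.mem_map.1 hg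
    have h := List.all_eq_true.1 hw a ha
    simp only [Bool.and_eq_true, Nat.blt_eq, bne_iff_ne] at h
    unfold evL
    split_ifs with hc
    · exact Subgroup.subset_closure (Or.inl ⟨a, hc, rfl⟩)
    · exact Subgroup.pow_mem T (Subgroup.subset_closure (Or.inr rfl)) _
  have hg := gen_ok
  simp only [Bool.and_eq_true, List.all_eq_true, List.mem_range, Nat.beq_eq] at hg
  obtain ⟨⟨⟨o0, o1⟩, e0⟩, e1⟩ := hg
  have key : ∀ k < 2, ∃ τ ∈ T, IsCode (uFourCodes.getD k 0) (τ : Equiv.Perm (Fin 126)) := by
    intro k hk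
    interval_cases k
    · exact ⟨_, hev _ o0, fun x => by rw [ptW_spec o0, e0 x.val x.isLt]⟩
    · exact ⟨_, hev _ o1, fun x => by rw [ptW_spec o1, e1 x.val x.isLt]⟩
  have hle : permGroup 126 uFourCodes ≤ T.map H4.subtype := by
    refine (Subgroup.closure_le _).2 ?_
    rintro σ ⟨P, hP, hσ⟩
    obtain ⟨k, hk, rfl⟩ := List.getElem_of_mem hP
    have hk2 : k < 2 := by
      have h := agree_checks
      simp only [agreeB, Bool.and_eq_true, Nat.beq_eq] at h
      omega
    obtain ⟨τ, hτ, hc⟩ := key k hk2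
    rw [List.getD_eq_getElem _ _ hk] at hc
    exact ⟨τ, hτ, isCode_unique hc hσ⟩
  rw [eq_top_iff]
  intro g _
  obtain ⟨g', hg', e⟩ := hle (show (g : Equiv.Perm (Fin 126)) ∈ permGroup 126 uFourCodes by rw [permGroup_eq]; exact g.2)
  rwa [← Subtype.ext (show ((g' : Equiv.Perm (Fin 126))) = g from e)]

/-- Code, element and relation in the unitary group. -/
theorem exists_model (K : Type) [Field K] [Fintype K] (hK : Fintype.card K = 9) :
    ∃ (z : Cfsg.PSU 4 K 3) (el : ℕ → Cfsg.PSU 4 K 3) (s : Cfsg.PSU 4 K 3), Code z el ∧ Cyc el s ∧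
      evW el s relCom = 1 ∧ Subgroup.closure (el '' Set.Iio 1152 ∪ {s}) = ⊤ ∧
      Nat.card (Cfsg.PSU 4 K 3) = 2835 * 1152 := by
  obtain ⟨e⟩ := psu_equiv_H4 K hK
  obtain ⟨hS, hcom⟩ := cyc
  have hev : ∀ w, evW (fun c => e (mElC c)) (e mS) w = e (evW mElC mS w) := by
    intro w
    simp only [evW, map_list_prod, List.map_map]
    refine congrArg List.prod (List.map_congr_left fun a _ => ?_)
    simp only [Function.comp_apply, evL]
    split_ifs
    · rfl
    · rw [map_pow]
  refine ⟨e (mElC 1), fun c => e (mElC c), e mS, ?_, ?_, by rw [hev, hcom, map_one], ?_, ?_⟩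
  · refine { one := by rw [code.one, map_one], mul := fun c d hc hd => ?_, mem := fun c hc => ?_,
             inj := fun c d hc hd h => code.inj c d hc hd (e.injective h), surj := fun g hg => ?_, z_eq := rfl }
    · exact ⟨(code.mul c d hc hd).1, by rw [← map_mul, (code.mul c d hc hd).2]⟩
    · rw [Subgroup.mem_centralizer_singleton_iff, ← map_mul, ← map_mul,
        Subgroup.mem_centralizer_singleton_iff.1 (code.mem c hc)]
    · rw [Subgroup.mem_centralizer_singleton_iff] at hg
      obtain ⟨c, hc, hce⟩ := code.surj (e.symm g) (by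
        rw [Subgroup.mem_centralizer_singleton_iff]
        apply e.injective
        rw [map_mul, map_mul, e.apply_symm_apply]
        exact hg)
      exact ⟨c, hc, by rw [hce, e.apply_symm_apply]⟩
  · exact ⟨by rw [← map_pow, hS.cube, map_one], fun p hp => by rw [← map_mul, hS.tab p hp, map_mul],
      by rw [hev, hS.rel_one, map_one], by rw [hev, hS.rel_two, map_one]⟩
  · have := congrArg (Subgroup.map (e : ↥H4 →* Cfsg.PSU 4 K 3)) generated
    rw [MonoidHom.map_closure, Subgroup.map_top_of_surjective _ e.surjective] at this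
    rw [← this, Set.image_union, Set.image_singleton, Set.image_image]
    rfl
  · rw [← Nat.card_congr e.toEquiv, card_H4]

end CfsgLib.UFourType.Model
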