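import Cfsg.Agent.Lib.LargeFischer.U43Cert
import Cfsg.Agent.Lib.UFourType.Model.Data
import Cfsg.Agent.Lib.UFourType.Basic

/-!
The codes as permutations of 126 points.
-/

set_option autoImplicit false
set_option maxRecDepth 100000

namespace CfsgLib.UFourType.Model

open CfsgLib.LeechPSU CfsgLib.Schur.Tails.UFour CfsgLib.TailsData CfsgLib.LargeFischer

/-- The elements in use. -/
def mEls : List ℕ := U43.els ++ opsM.map fun o => o.2.2

/-- An element by its number. -/
noncomputable def mel (i : ℕ) : ℕ := mEls.getD i 0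

theorem opsM_ok : slpOk 126 opsM U43.els = true := by decide +kernel

theorem exists_mel {i : ℕ} (hi : i < mEls.length) : ∃ σ : ↥H4, IsCode (mel i) (σ : Equiv.Perm (Fin 126)) := by
  have hbase : ∀ P ∈ U43.els, ∃ σ ∈ H4, IsCode P σ := by
    intro P hP
    obtain ⟨k, hk, rfl⟩ := List.getElem_of_mem hP
    obtain ⟨σ, hσ⟩ := U43.exists_el hk
    rw [U43.el, List.getD_eq_getElem _ _ hk] at hσ
    exact ⟨σ, σ.2, hσ⟩
  obtain ⟨σ, hσ, hc⟩ := slp_sound _ _ hbase opsM_ok _ (show mEls[i] ∈ _ from List.getElem_mem hi)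
  refine ⟨⟨σ, hσ⟩, ?_⟩
  rw [mel, List.getD_eq_getElem _ _ hi]
  exact hc

/-- An element. -/
noncomputable def mP (i : ℕ) : ↥H4 := if h : i < mEls.length then (exists_mel h).choose else 1

theorem code_mP {i : ℕ} (hi : i < mEls.length) : IsCode (mel i) (mP i : Equiv.Perm (Fin 126)) := by
  rw [mP, dif_pos hi]; exact (exists_mel hi).choose_spec

/-- The number of a code of the normal subgroup. -/
def qN (v : ℕ) : ℕ := qI.getD v 0

/-- The number of a representative. -/
def rN (l : ℕ) : ℕ := rI.getD l 0

/-- Pass the value of a number on. -/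
def fN (n : ℕ) (k : ℕ → ℕ) : ℕ :=
  match n with
  | 0 => k 0
  | m + 1 => k (m + 1)

theorem fN_eq (n : ℕ) (k : ℕ → ℕ) : fN n k = k n := by cases n <;> rfl

/-- The image of a point under a letter. -/
noncomputable def ptL (a : ℕ) (x : ℕ) : ℕ :=
  if a < 1152 then fN (fieldAt (mel (rN (a / 32))) x) fun y => fieldAt (mel (qN (a % 32))) y
  else if a = 1153 then fieldAt (mel sI) x
  else fN (fieldAt (mel sI) x) fun y => fieldAt (mel sI) y

/-- The image of a point under a word. -/
noncomputable def ptW (w : List ℕ) (x : ℕ) : ℕ := w.foldr (fun a y => fN y fun y' => ptL a y') x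

/-- A word is a code or a power of the extra element. -/
def mwOk (w : List ℕ) : Bool := w.all fun a => Nat.blt a 1155 && a != 1152

/-- Two words agree on all points. -/
noncomputable def sameB (u v : List ℕ) : Bool := (List.range 126).all fun x => Nat.beq (ptW u x) (ptW v x)

/-- The element of a code. -/
noncomputable def mElC (c : ℕ) : ↥H4 := mP (qN (c % 32)) * mP (rN (c / 32))

/-- The element of order three. -/
noncomputable def mS : ↥H4 := mP sI

theorem idx_ok : ((List.range 32).all (fun v => Nat.blt (qN v) mEls.length) &&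
    (List.range 36).all (fun l => Nat.blt (rN l) mEls.length) && Nat.blt sI mEls.length) = true := by decide +kernel

theorem idx_spec : (∀ v < 32, qN v < mEls.length) ∧ (∀ l < 36, rN l < mEls.length) ∧ sI < mEls.length := by
  have h := idx_ok
  simp only [Bool.and_eq_true, List.all_eq_true, List.mem_range, Nat.blt_eq] at h
  exact ⟨h.1.1, h.1.2, h.2⟩

theorem ptL_spec {a : ℕ} (ha : a < 1155) (ha' : a ≠ 1152) (x : Fin 126) :
    (((evL mElC mS a : ↥H4) : Equiv.Perm (Fin 126)) x).val = ptL a x.val := by
  obtain ⟨hq, hr, hs⟩ := idx_spec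
  unfold evL ptL
  by_cases hc : a < 1152
  · simp only [hc, if_true, fN_eq, mElC, Subgroup.coe_mul, Equiv.Perm.mul_apply]
    rw [code_mP (hq (a % 32) (by omega)), code_mP (hr (a / 32) (by omega))]
  · rcases (show a = 1153 ∨ a = 1154 by omega) with rfl | rfl
    · simp only [hc, if_false, if_true, show (1153 : ℕ) - 1152 = 1 from rfl, pow_one, mS]
      rw [code_mP hs]
    · simp only [hc, if_false, fN_eq, show (1154 : ℕ) - 1152 = 2 from rfl, pow_two, mS, Subgroup.coe_mul,
        Equiv.Perm.mul_apply, show ¬ (1154 : ℕ) = 1153 by norm_num]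
      rw [code_mP hs, code_mP hs]

theorem ptW_spec : ∀ {w : List ℕ}, mwOk w = true → ∀ x : Fin 126,
    (((evW mElC mS w : ↥H4) : Equiv.Perm (Fin 126)) x).val = ptW w x.val
  | [], _, x => by simp [evW, ptW]
  | a :: w, h, x => by
    simp only [mwOk, List.all_cons, Bool.and_eq_true, Nat.blt_eq, bne_iff_ne] at h
    have e := ptW_spec (w := w) (by simpa [mwOk, bne_iff_ne] using h.2) x
    have : evW mElC mS (a :: w) = evL mElC mS a * evW mElC mS w := by simp [evW]
    rw [this, Subgroup.coe_mul, Equiv.Perm.mul_apply, ptL_spec h.1.1 h.1.2, e]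
    simp [ptW, fN_eq]

theorem evW_eq {u v : List ℕ} (hu : mwOk u = true) (hv : mwOk v = true) (h : sameB u v = true) :
    evW mElC mS u = evW mElC mS v := by
  refine Subtype.ext (Equiv.ext fun x => Fin.ext ?_)
  rw [ptW_spec hu, ptW_spec hv]
  exact Nat.eq_of_beq_eq_true (List.all_eq_true.1 h x.val (List.mem_range.2 x.isLt))

end CfsgLib.UFourType.Model
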